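import Cfsg.Agent.Lib.Forms.SymmBasis

/-!
Type of a symmetric bilinear form of even rank over a finite field of odd order.
-/

set_option autoImplicit false

namespace Cfsg.Agent.Lib.Forms

universe u v w

variable {F : Type u} [Field F]

lemma diag_symm {U : Type v} [AddCommGroup U] [Module F U] (C : LinearMap.BilinForm F U)
    {κ : Type*} [DecidableEq κ] (c : Module.Basis κ F U) (e : κ → F)
    (hc : ∀ i j, C (c i) (c j) = if i = j then e i else 0) (x y : U) : C x y = C y x := by
  have : C = LinearMap.BilinForm.flip C := c.ext fun i => c.ext fun j => by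
    rw [LinearMap.BilinForm.flip_apply, hc, hc]
    rcases eq_or_ne i j with rfl | hij
    · rfl
    · rw [if_neg hij, if_neg hij.symm]
  exact (LinearMap.congr_fun (LinearMap.congr_fun this x) y).trans (LinearMap.BilinForm.flip_apply C x y)

lemma diag_separating {U : Type v} [AddCommGroup U] [Module F U] (C : LinearMap.BilinForm F U)
    {κ : Type*} [Fintype κ] [DecidableEq κ] (c : Module.Basis κ F U) (e : κ → F)
    (hc : ∀ i j, C (c i) (c j) = if i = j then e i else 0) (he : ∀ i, e i ≠ 0) {x : U}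
    (hx : x ≠ 0) : ∃ y, C x y ≠ 0 := by
  by_contra hcon
  push Not at hcon
  refine hx (c.ext_elem fun i => ?_)
  have := hcon (c i)
  rw [← c.sum_repr x, map_sum, LinearMap.sum_apply, Finset.sum_eq_single i] at this
  · simpa [hc, he i] using this
  · intro j _ hj; simp [hc, hj]
  · simp

lemma normal_basis [Finite F] (h2 : (2 : F) ≠ 0) {α : F} (hα : ¬ IsSquare α) {U : Type v}
    [AddCommGroup U] [Module F U] (C : LinearMap.BilinForm F U) {n : ℕ}
    (c : Module.Basis (Fin (n + 1)) F U) (e : Fin (n + 1) → F)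
    (hc : ∀ i j, C (c i) (c j) = if i = j then e i else 0) (he : ∀ i, e i ≠ 0) :
    ∃ (c' : Module.Basis (Fin (n + 1)) F U) (r t : F), (t = 1 ∨ t = α) ∧
      t = r ^ 2 * ∏ i, e i ∧
      ∀ i j, C (c' i) (c' j) = if i = j then (if i = Fin.last n then t else 1) else 0 := by
  classical
  haveI : FiniteDimensional F U := Module.Finite.of_basis c
  obtain ⟨f, f1, f2, f3⟩ := exists_normal_family h2 hα n U C (diag_symm C c e hc)
    (fun x hx => diag_separating C c e hc he hx) (by simp [Module.finrank_eq_card_basis c])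
  have hα0 : α ≠ 0 := fun e => hα (e ▸ IsSquare.zero)
  set t := C (f (Fin.last n)) (f (Fin.last n)) with ht
  have hf : ∀ i j, C (f i) (f j) = if i = j then (if i = Fin.last n then t else 1) else 0 := by
    intro i j
    rcases eq_or_ne i j with rfl | hij
    · rcases eq_or_ne i (Fin.last n) with rfl | hi
      · simp [ht]
      · simp [hi, f2 i hi]
    · simp [hij, f1 i j hij]
  have ht0 : t ≠ 0 := by rcases f3 with h | h <;> rw [h]; exacts [one_ne_zero, hα0]
  have hli := LinearMap.BilinForm.linearIndependent_of_iIsOrtho (B := C) (v := f)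
    (fun i j hij => f1 i j hij) (fun i => by rw [hf i i, if_pos rfl]; split_ifs; exacts [ht0, one_ne_zero])
  let c' := basisOfLinearIndependentOfCardEqFinrank' f hli (Module.finrank_eq_card_basis c).symm
  have hc' : ∀ i j, C (c' i) (c' j) = if i = j then (if i = Fin.last n then t else 1) else 0 := by
    simpa [c'] using hf
  obtain ⟨r, hr⟩ := prod_diag_square C c c' e (fun i => if i = Fin.last n then t else 1) hc hc'
  rw [Fintype.prod_eq_single (Fin.last n) (fun i hi => if_neg hi), if_pos rfl] at hr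
  exact ⟨c', r, t, f3, hr, hc'⟩

lemma exists_isometry [Finite F] (h2 : (2 : F) ≠ 0) {V : Type v} [AddCommGroup V] [Module F V]
    {W : Type w} [AddCommGroup W] [Module F W] (B : LinearMap.BilinForm F V)
    (B' : LinearMap.BilinForm F W) {n : ℕ} (b : Module.Basis (Fin n) F V)
    (b' : Module.Basis (Fin n) F W) (d d' : Fin n → F)
    (hb : ∀ i j, B (b i) (b j) = if i = j then d i else 0)
    (hb' : ∀ i j, B' (b' i) (b' j) = if i = j then d' i else 0)
    (hd : ∀ i, d i ≠ 0) (hd' : ∀ i, d' i ≠ 0) (hsq : IsSquare ((∏ i, d i) * ∏ i, d' i)) :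
    ∃ g : W →ₗ[F] V, ∀ x y, B (g x) (g y) = B' x y := by
  classical
  haveI : FiniteDimensional F V := Module.Finite.of_basis b
  haveI : FiniteDimensional F W := Module.Finite.of_basis b'
  rcases n with - | n
  · haveI : Subsingleton W := b'.repr.toEquiv.subsingleton
    exact ⟨0, fun x y => by rw [Subsingleton.elim x 0]; simp⟩
  obtain ⟨α, hα⟩ := FiniteField.exists_nonsquare (F := F) (fun e => h2 (by
    have := ringChar.spec F 2
    simpa using this.2 (e ▸ dvd_rfl)))
  have hα0 : α ≠ 0 := fun e => hα (e ▸ IsSquare.zero)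
  obtain ⟨c, r, t, ht, hr, hc⟩ := normal_basis h2 hα B b d hb hd
  obtain ⟨c', r', t', ht', hr', hc'⟩ := normal_basis h2 hα B' b' d' hb' hd'
  have hprod : IsSquare (t * t') := by
    obtain ⟨z, hz⟩ := hsq
    exact ⟨r * r' * z, by rw [hr, hr']; linear_combination (r ^ 2 * r' ^ 2) * hz⟩
  have htt : t = t' := by
    rcases ht with rfl | rfl <;> rcases ht' with rfl | rfl <;> first
      | rfl
      | exact absurd (by simpa using hprod) hα
  subst htt
  refine ⟨(c'.equiv c (Equiv.refl _)).toLinearMap, fun x y => ?_⟩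
  have : B.compl₁₂ (c'.equiv c (Equiv.refl _)).toLinearMap
      (c'.equiv c (Equiv.refl _)).toLinearMap = B' :=
    c'.ext fun i => c'.ext fun j => by simp [hc, hc']
  exact LinearMap.congr_fun (LinearMap.congr_fun this x) y

/-- A totally isotropic subspace of half the rank makes the signed discriminant a square. -/
theorem isSquare_of_ti {V : Type v} [AddCommGroup V] [Module F V] (B : LinearMap.BilinForm F V)
    {κ : Type*} [Fintype κ] [DecidableEq κ] (b : Module.Basis κ F V) (a : κ → F)
    (hb : ∀ i j, B (b i) (b j) = if i = j then a i else 0) (ha : ∀ i, a i ≠ 0) {N : ℕ}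
    (hκ : Fintype.card κ = 2 * N) (X : Submodule F V) (hX : Module.finrank F X = N)
    (hti : ∀ x ∈ X, ∀ y ∈ X, B x y = 0) : IsSquare ((-1) ^ N * ∏ i, a i) := by
  classical
  haveI : FiniteDimensional F V := Module.Finite.of_basis b
  obtain ⟨Y, hY⟩ := Submodule.exists_isCompl X
  have hYd : Module.finrank F Y = N := by
    have := Submodule.finrank_add_eq_of_isCompl hY
    rw [Module.finrank_eq_card_basis b, hκ] at this
    omega
  let c : Module.Basis (Fin N ⊕ Fin N) F V :=
    ((Module.finBasisOfFinrankEq F X hX).prod (Module.finBasisOfFinrankEq F Y hYd)).map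
      (Submodule.prodEquivOfIsCompl X Y hY)
  have hcl : ∀ i, c (Sum.inl i) ∈ X := fun i => by simp [c]
  let e : κ ≃ Fin N ⊕ Fin N := Fintype.equivOfCardEq (by simp [hκ]; omega)
  let b' := b.reindex e
  let G := LinearMap.BilinForm.toMatrix c B
  have hG11 : G.toBlocks₁₁ = 0 := by
    ext i j
    simp only [G, Matrix.toBlocks₁₁, Matrix.of_apply, LinearMap.BilinForm.toMatrix_apply,
      Matrix.zero_apply]
    exact hti _ (hcl i) _ (hcl j)
  set A := G.toBlocks₁₂
  have hsym : ∀ x y, B x y = B y x := diag_symm B b a hb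
  have hG21 : G.toBlocks₂₁ = A.transpose := by
    ext i j
    simp only [G, A, Matrix.toBlocks₂₁, Matrix.toBlocks₁₂, Matrix.transpose_apply, Matrix.of_apply,
      LinearMap.BilinForm.toMatrix_apply]
    exact hsym _ _
  have hdet : G.det = (-1) ^ N * A.det ^ 2 := by
    have hfac : G = Matrix.fromBlocks 0 1 1 0 *
        Matrix.fromBlocks A.transpose G.toBlocks₂₂ 0 A := by
      conv_lhs => rw [← Matrix.fromBlocks_toBlocks G, hG11, hG21]
      rw [Matrix.fromBlocks_multiply]
      simp [A]
    have hJ : (Matrix.fromBlocks 0 1 1 0 : Matrix (Fin N ⊕ Fin N) (Fin N ⊕ Fin N) F).det =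
        (-1) ^ N := by
      have h := congrArg Matrix.det
        (show (Matrix.fromBlocks 1 1 0 1 : Matrix (Fin N ⊕ Fin N) (Fin N ⊕ Fin N) F) *
            Matrix.fromBlocks 0 1 1 0 = Matrix.fromBlocks 1 1 1 0 by
          rw [Matrix.fromBlocks_multiply]; simp)
      rw [Matrix.det_mul, Matrix.det_fromBlocks_zero₂₁, Matrix.det_fromBlocks_one₁₁] at h
      simpa [Matrix.det_neg] using h
    rw [hfac, Matrix.det_mul, hJ, Matrix.det_fromBlocks_zero₂₁, Matrix.det_transpose]
    ring
  have h := congrArg Matrix.det (LinearMap.BilinForm.toMatrix_mul_basis_toMatrix b' c B)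
  have e1 : LinearMap.BilinForm.toMatrix b' B = Matrix.diagonal (a ∘ e.symm) := by
    ext i j
    rw [LinearMap.BilinForm.toMatrix_apply, Module.Basis.reindex_apply,
      Module.Basis.reindex_apply, hb, Matrix.diagonal_apply]
    simp
  rw [e1, Matrix.det_mul, Matrix.det_mul, Matrix.det_transpose, Matrix.det_diagonal] at h
  simp only [Function.comp_apply] at h
  rw [Equiv.prod_comp e.symm a] at h
  set p := (b'.toMatrix c).det
  have hp : p ≠ 0 := by
    intro h0
    have := congrArg Matrix.det (b'.toMatrix_mul_toMatrix_flip c)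
    rw [Matrix.det_mul, Matrix.det_one] at this
    change p * _ = 1 at this
    rw [h0, zero_mul] at this
    exact zero_ne_one this
  refine ⟨A.det / p, ?_⟩
  have h' : p * (∏ i, a i) * p = (-1) ^ N * A.det ^ 2 := by rw [← hdet]; exact h
  have h1 : ((-1 : F) ^ N) * (-1) ^ N = 1 := by rw [← mul_pow]; simp
  field_simp
  linear_combination (-1 : F) ^ N * h' + A.det ^ 2 * h1

/-- A square signed discriminant gives a totally isotropic subspace of half the rank. -/
theorem exists_ti_of_isSquare [Finite F] (h2 : (2 : F) ≠ 0) {V : Type v} [AddCommGroup V]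
    [Module F V] (B : LinearMap.BilinForm F V) {κ : Type*} [Fintype κ] [DecidableEq κ]
    (b₀ : Module.Basis κ F V) (a₀ : κ → F)
    (hb₀ : ∀ i j, B (b₀ i) (b₀ j) = if i = j then a₀ i else 0) (ha₀ : ∀ i, a₀ i ≠ 0) {N : ℕ}
    (hκ : Fintype.card κ = 2 * N) (hsq : IsSquare ((-1) ^ N * ∏ i, a₀ i)) :
    ∃ X : Submodule F V, Module.finrank F X = N ∧ ∀ x ∈ X, ∀ y ∈ X, B x y = 0 := by
  classical
  let e : κ ≃ Fin N ⊕ Fin N := Fintype.equivOfCardEq (by simp [hκ]; omega)
  let b := b₀.reindex e
  set a := a₀ ∘ e.symm with ha_def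
  have hb : ∀ i j, B (b i) (b j) = if i = j then a i else 0 := fun i j => by simp [b, a, hb₀]
  have ha : ∀ i, a i ≠ 0 := fun i => ha₀ _
  rw [← Equiv.prod_comp e.symm a₀] at hsq
  change IsSquare ((-1) ^ N * ∏ i, a i) at hsq
  rw [Fintype.prod_sum_type] at hsq
  set a1 : Fin N → F := fun i => a (Sum.inl i)
  set a2 : Fin N → F := fun i => a (Sum.inr i)
  let D1 : LinearMap.BilinForm F (Fin N → F) := Matrix.toBilin' (Matrix.diagonal fun i => -a1 i)
  let D2 : LinearMap.BilinForm F (Fin N → F) := Matrix.toBilin' (Matrix.diagonal a2)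
  have hD1 : ∀ i j, D1 (Pi.basisFun F _ i) (Pi.basisFun F _ j) = if i = j then -a1 i else 0 :=
    fun i j => by simp [D1, Matrix.toBilin'_single, Matrix.diagonal_apply]
  have hD2 : ∀ i j, D2 (Pi.basisFun F _ i) (Pi.basisFun F _ j) = if i = j then a2 i else 0 :=
    fun i j => by simp [D2, Matrix.toBilin'_single, Matrix.diagonal_apply]
  obtain ⟨g, hg⟩ := exists_isometry h2 D2 D1 (Pi.basisFun F _) (Pi.basisFun F _) a2
    (fun i => -a1 i) hD2 hD1 (fun i => ha _) (fun i => neg_ne_zero.2 (ha _)) (by
      rw [Finset.prod_neg, Finset.card_univ, Fintype.card_fin]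
      convert hsq using 1
      simp only [a1, a2]; ring)
  let E1 := (Pi.basisFun F (Fin N)).constr F fun i => b (Sum.inl i)
  let E2 := (Pi.basisFun F (Fin N)).constr F fun i => b (Sum.inr i)
  have hE1 : ∀ i, E1 (Pi.basisFun F _ i) = b (Sum.inl i) := fun i => Module.Basis.constr_basis _ _ _ i
  have hE2 : ∀ i, E2 (Pi.basisFun F _ i) = b (Sum.inr i) := fun i => Module.Basis.constr_basis _ _ _ i
  let T := E1 + E2.comp g
  have h11 : B.compl₁₂ E1 E1 = -D1 := (Pi.basisFun F _).ext fun i => (Pi.basisFun F _).ext fun j => by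
    rw [LinearMap.compl₁₂_apply, hE1, hE1, LinearMap.neg_apply, LinearMap.neg_apply, hD1, hb]
    simp only [Sum.inl.injEq]; split_ifs <;> simp [a1]
  have h22 : B.compl₁₂ E2 E2 = D2 := (Pi.basisFun F _).ext fun i => (Pi.basisFun F _).ext fun j => by
    rw [LinearMap.compl₁₂_apply, hE2, hE2, hD2, hb]
    simp only [Sum.inr.injEq, a2]
  have h12 : B.compl₁₂ E1 E2 = 0 := (Pi.basisFun F _).ext fun i => (Pi.basisFun F _).ext fun j => by
    simp [hE1, hE2, hb, -Pi.basisFun_apply]
  have h21 : B.compl₁₂ E2 E1 = 0 := (Pi.basisFun F _).ext fun i => (Pi.basisFun F _).ext fun j => by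
    simp [hE1, hE2, hb, -Pi.basisFun_apply]
  have hTT : ∀ x y, B (T x) (T y) = 0 := fun x y => by
    have e1 := LinearMap.congr_fun (LinearMap.congr_fun h11 x) y
    have e2 := LinearMap.congr_fun (LinearMap.congr_fun h22 (g x)) (g y)
    have e3 := LinearMap.congr_fun (LinearMap.congr_fun h12 x) (g y)
    have e4 := LinearMap.congr_fun (LinearMap.congr_fun h21 (g x)) y
    simp only [LinearMap.compl₁₂_apply, LinearMap.neg_apply, LinearMap.zero_apply] at e1 e2 e3 e4
    simp only [T, LinearMap.add_apply, LinearMap.comp_apply, map_add, e1, e2, e3, e4, hg]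
    ring
  have hinj : Function.Injective T := by
    rw [injective_iff_map_eq_zero]
    intro x hx
    funext i
    have := congrArg (fun v => b.repr v (Sum.inl i)) hx
    have p1 : ∀ z, b.repr (E1 z) (Sum.inl i) = z i := fun z => by
      have : (b.coord (Sum.inl i)).comp E1 = LinearMap.proj i :=
        (Pi.basisFun F _).ext fun j => by
          simp [hE1, Finsupp.single_apply, Pi.single_apply, eq_comm, -Pi.basisFun_apply]
          simp [Pi.basisFun_apply, Pi.single_apply, eq_comm]
      exact LinearMap.congr_fun this z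
    have p2 : ∀ z, b.repr (E2 z) (Sum.inl i) = 0 := fun z => by
      have : (b.coord (Sum.inl i)).comp E2 = 0 :=
        (Pi.basisFun F _).ext fun j => by simp [hE2, -Pi.basisFun_apply]
      exact LinearMap.congr_fun this z
    simpa [T, p1, p2] using this
  refine ⟨LinearMap.range T, ?_, ?_⟩
  · rw [LinearMap.finrank_range_of_inj hinj, Module.finrank_pi, Fintype.card_fin]
  · rintro _ ⟨x, rfl⟩ _ ⟨y, rfl⟩
    exact hTT x y

/-- Type of a diagonalised symmetric form of even rank. -/
theorem ti_iff [Finite F] (h2 : (2 : F) ≠ 0) {V : Type v} [AddCommGroup V] [Module F V]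
    (B : LinearMap.BilinForm F V) {κ : Type*} [Fintype κ] [DecidableEq κ]
    (b : Module.Basis κ F V) (a : κ → F) (hb : ∀ i j, B (b i) (b j) = if i = j then a i else 0)
    (ha : ∀ i, a i ≠ 0) {N : ℕ} (hκ : Fintype.card κ = 2 * N) :
    (∃ X : Submodule F V, Module.finrank F X = N ∧ ∀ x ∈ X, ∀ y ∈ X, B x y = 0) ↔
      IsSquare ((-1) ^ N * ∏ i, a i) :=
  ⟨fun ⟨X, h1, h2⟩ => isSquare_of_ti B b a hb ha hκ X h1 h2,
    exists_ti_of_isSquare h2 B b a hb ha hκ⟩

/-- An orthogonal basis with non-zero values. -/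
lemma exists_diag_basis (h2 : (2 : F) ≠ 0) {V : Type v} [AddCommGroup V] [Module F V]
    [FiniteDimensional F V] (B : LinearMap.BilinForm F V) (hS : B.IsSymm) (hB : B.Nondegenerate) :
    ∃ (b : Module.Basis (Fin (Module.finrank F V)) F V) (a : Fin (Module.finrank F V) → F),
      (∀ i, a i ≠ 0) ∧ ∀ i j, B (b i) (b j) = if i = j then a i else 0 := by
  haveI : Invertible (2 : F) := invertibleOfNonzero h2
  obtain ⟨b, hb⟩ := LinearMap.BilinForm.exists_orthogonal_basis (B := B) ⟨hS.eq⟩
  refine ⟨b, fun i => B (b i) (b i), fun i h0 => b.ne_zero i (hB.1 (b i) fun y => ?_), fun i j => ?_⟩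
  · rw [← b.sum_repr y, map_sum]
    refine Finset.sum_eq_zero fun j _ => ?_
    rcases eq_or_ne i j with rfl | hij
    · rw [map_smul]; simp only at h0; rw [h0, smul_zero]
    · have h : B (b i) (b j) = 0 := hb hij
      rw [map_smul, h, smul_zero]
  · rcases eq_or_ne i j with rfl | hij
    · simp
    · rw [if_neg hij]; exact hb hij

section Tensor

open scoped TensorProduct

variable {U : Type v} [AddCommGroup U] [Module F U] {W : Type w} [AddCommGroup W] [Module F W]

lemma tensor_diag (B₁ : LinearMap.BilinForm F U) (B₂ : LinearMap.BilinForm F W) {κ ι : Type*}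
    [DecidableEq κ] [DecidableEq ι] (b : Module.Basis κ F U) (c : Module.Basis ι F W) (a : κ → F)
    (d : ι → F) (hb : ∀ i j, B₁ (b i) (b j) = if i = j then a i else 0)
    (hc : ∀ i j, B₂ (c i) (c j) = if i = j then d i else 0) (p p' : κ × ι) :
    (B₁.tmul B₂) (b.tensorProduct c p) (b.tensorProduct c p') =
      if p = p' then a p.1 * d p.2 else 0 := by
  obtain ⟨i, j⟩ := p
  obtain ⟨i', j'⟩ := p'
  simp only [Module.Basis.tensorProduct_apply, LinearMap.BilinForm.tensorDistrib_tmul, hb, hc,
    smul_eq_mul, Prod.mk.injEq]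
  split_ifs <;> simp_all [mul_comm]

lemma tensor_nondegenerate [FiniteDimensional F U] [FiniteDimensional F W]
    (B₁ : LinearMap.BilinForm F U) (B₂ : LinearMap.BilinForm F W)
    (h₁ : B₁.Nondegenerate) (h₂ : B₂.Nondegenerate)
    (hs : (B₁.tmul B₂).IsSymm) : (B₁.tmul B₂).Nondegenerate := by
  classical
  let b := Module.finBasis F U
  let c := Module.finBasis F W
  let b' := LinearMap.BilinForm.dualBasis B₁ h₁ b
  let c' := LinearMap.BilinForm.dualBasis B₂ h₂ c
  have key : ∀ z, (∀ y, (B₁.tmul B₂) z y = 0) → z = 0 := fun z hz => by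
    refine (b'.tensorProduct c').ext_elem fun p => ?_
    obtain ⟨i, j⟩ := p
    have := hz (b i ⊗ₜ[F] c j)
    rw [← (b'.tensorProduct c').sum_repr z, map_sum, LinearMap.sum_apply,
      Finset.sum_eq_single (i, j)] at this
    · simpa [b', c', LinearMap.BilinForm.apply_dualBasis_left,
        LinearMap.BilinForm.tensorDistrib_tmul] using this
    · rintro ⟨k, l⟩ - hkl
      simp only [map_smul, LinearMap.smul_apply, Module.Basis.tensorProduct_apply,
        LinearMap.BilinForm.tensorDistrib_tmul, b', c', LinearMap.BilinForm.apply_dualBasis_left]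
      split_ifs <;> simp_all
    · simp
  exact ⟨key, fun z hz => key z fun y => by rw [← hz y]; exact hs.eq z y⟩

end Tensor

end Cfsg.Agent.Lib.Forms
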